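import Groth.Agent.Lib.Lead.CE.Galois

/-! # Closed embeddings: the essential image of `i_*`. -/

universe u
open CategoryTheory Limits Opposite TopologicalSpace Topology

namespace Groth.Agent.LD.CE

variable {Z X : TopCat.{u}} (i : Z ⟶ X) (hi : IsClosedEmbedding i)

/-- `F` has no nonzero sections over opens missing the image of `i`. -/
def Supp0 (F : CohTop.Ab X) : Prop :=
  ∀ V : Opens X, (∀ x ∈ V, x ∉ Set.range i) → Subsingleton (F.obj.obj (op V))

lemma supp0_push (G : CohTop.Ab Z) : Supp0 i ((CohTop.push i).obj G) := by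
  intro V hV
  have hVe : (Opens.map i).obj V = ⊥ := by
    apply le_antisymm _ bot_le
    intro z hz
    exact (hV _ hz ⟨z, rfl⟩).elim
  exact SC.subsingleton_of_eq_bot G hVe

lemma supp0_of_iso {F F' : CohTop.Ab X} (e : F ≅ F') (h : Supp0 i F) : Supp0 i F' := by
  intro V hV
  haveI := h V hV
  refine ⟨fun a b => ?_⟩
  have key : ∀ c : F'.obj.obj (op V), e.hom.hom.app (op V) (e.inv.hom.app (op V) c) = c := by
    intro c
    rw [← ConcreteCategory.comp_apply, ← NatTrans.comp_app, ← ObjectProperty.FullSubcategory.comp_hom, e.inv_hom_id]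
    rfl
  rw [← key a, ← key b, Subsingleton.elim (e.inv.hom.app (op V) a) (e.inv.hom.app (op V) b)]

lemma supp0_iff_stalk (F : CohTop.Ab X) (hr : IsClosed (Set.range i)) :
    Supp0 i F ↔ ∀ x : X, x ∉ Set.range i → IsZero (CohTop.stalk F x) := by
  constructor
  · intro h x hx
    let C : Opens X := ⟨(Set.range i)ᶜ, hr.isOpen_compl⟩
    have hz : ∀ c : CohTop.stalk F x, c = 0 := by
      intro c
      obtain ⟨U, hxU, s, rfl⟩ := TopCat.Presheaf.exists_germ_eq F.obj c
      haveI := h (U ⊓ C) (fun y hy => hy.2)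
      have h1 := TopCat.Presheaf.germ_res_apply F.obj
        (homOfLE (inf_le_left : U ⊓ C ≤ U)) x ⟨hxU, hx⟩ s
      rw [← h1, Subsingleton.elim (F.obj.map (homOfLE (inf_le_left : U ⊓ C ≤ U)).op s) 0, map_zero]
    haveI : Subsingleton (CohTop.stalk F x) := ⟨fun a b => by rw [hz a, hz b]⟩
    exact AddCommGrpCat.isZero_of_subsingleton _
  · intro h V hV
    refine ⟨fun a b => ?_⟩
    apply TopCat.Presheaf.section_ext F V a b
    intro x hx
    haveI := AddCommGrpCat.subsingleton_of_isZero (h x (hV x hx))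
    exact Subsingleton.elim _ _

/-- the functor `W ↦ (i(Wᶜ))ᶜ`. -/
def sFun : Opens Z ⥤ Opens X where
  obj := sObj i hi
  map f := homOfLE (sObj_mono i hi f.le)

/-- the presheaf `W ↦ F((i(Wᶜ))ᶜ)` on `Z`. -/
def sPsh (F : CohTop.Ab X) : (Opens Z)ᵒᵖ ⥤ AddCommGrpCat.{u} := (sFun i hi).op ⋙ F.obj

lemma res_res' {Y : TopCat.{u}} (P : (Opens Y)ᵒᵖ ⥤ AddCommGrpCat.{u}) {A B C : (Opens Y)ᵒᵖ}
    (f : A ⟶ B) (g : B ⟶ C) (h : A ⟶ C) (x : P.obj A) : P.map g (P.map f x) = P.map h x := by
  rw [← ConcreteCategory.comp_apply, ← P.map_comp, Subsingleton.elim (f ≫ g) h]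

lemma sPsh_map (F : CohTop.Ab X) {W W' : Opens Z} (f : op W ⟶ op W')
    (x : ToType ((sPsh i hi F).obj (op W))) :
    (sPsh i hi F).map f x =
      F.obj.map (X := op (sObj i hi W)) (Y := op (sObj i hi W'))
        (homOfLE (sObj_mono i hi f.unop.le)).op x := rfl

theorem sPsh_isSheaf (F : CohTop.Ab X) (hF : Supp0 i F) :
    TopCat.Presheaf.IsSheaf (sPsh i hi F) := by
  rw [TopCat.Presheaf.isSheaf_iff_isSheafUniqueGluing]
  intro ι W sf hsf
  let C : Opens X := ⟨(Set.range i)ᶜ, hi.isClosed_range.isOpen_compl⟩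
  let V' : Option ι → Opens X := fun o => o.elim C (fun a => sObj i hi (W a))
  let sf' : ∀ o, F.obj.obj (op (V' o)) := fun o =>
    match o with
    | none => 0
    | some a => sf a
  have hsub : ∀ A : Opens X, A ≤ C → Subsingleton (F.obj.obj (op A)) :=
    fun A hA => hF A (fun x hx => hA hx)
  have hle : ∀ o, V' o ≤ sObj i hi (iSup W) := by
    rintro (_ | a)
    · intro x hx
      exact compl_range_le_sObj i hi _ x hx
    · exact sObj_mono i hi (le_iSup W a)
  have hcov : sObj i hi (iSup W) ≤ iSup V' := by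
    intro x hx
    by_cases hxr : x ∈ Set.range i
    · obtain ⟨z, rfl⟩ := hxr
      have hz : z ∈ iSup W := (mem_sObj i hi _ _).mp hx z rfl
      obtain ⟨a, ha⟩ := Opens.mem_iSup.mp hz
      refine Opens.mem_iSup.mpr ⟨some a, (mem_sObj i hi _ _).mpr fun z' hz' => ?_⟩
      rw [hi.injective hz']
      exact ha
    · exact Opens.mem_iSup.mpr ⟨none, hxr⟩
  have hcompat : TopCat.Presheaf.IsCompatible F.obj V' sf' := by
    rintro (_ | a) (_ | b)
    · rfl
    · haveI := hsub (V' none ⊓ V' (some b)) inf_le_left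
      exact Subsingleton.elim _ _
    · haveI := hsub (V' (some a) ⊓ V' none) inf_le_right
      exact Subsingleton.elim _ _
    · have h := hsf a b
      rw [sPsh_map, sPsh_map] at h
      have h' := congrArg (F.obj.map (homOfLE (sObj_inf i hi (W a) (W b)).ge).op) h
      exact (res_res' F.obj _ _ _ (sf a)).symm.trans (h'.trans (res_res' F.obj _ _ _ (sf b)))
  obtain ⟨t, ht, htu⟩ := TopCat.Sheaf.existsUnique_gluing' F V' (sObj i hi (iSup W))
    (fun o => homOfLE (hle o)) hcov sf' hcompat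
  refine ⟨t, fun a => ht (some a), fun t' ht' => htu t' ?_⟩
  rintro (_ | a)
  · haveI := hsub (V' none) le_rfl
    exact Subsingleton.elim _ _
  · exact ht' a

/-- the sheaf `W ↦ F((i(Wᶜ))ᶜ)` on `Z`, for `F` supported on `Z`. -/
def sPull (F : CohTop.Ab X) (hF : Supp0 i F) : CohTop.Ab Z := ⟨sPsh i hi F, sPsh_isSheaf i hi F hF⟩

/-- the comparison `i_* (F ∘ s) ⟶ F`. -/
def sPullHom (F : CohTop.Ab X) (hF : Supp0 i F) : (CohTop.push i).obj (sPull i hi F hF) ⟶ F where
  hom :=
    { app := fun V => F.obj.map (homOfLE (le_sObj_map i hi V.unop)).op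
      naturality := by
        intro V V' f
        change F.obj.map _ ≫ F.obj.map _ = F.obj.map _ ≫ F.obj.map _
        rw [← F.obj.map_comp, ← F.obj.map_comp]
        exact map_eq_map F.obj _ _ }

lemma sObj_map_le (V : Opens X) :
    sObj i hi ((Opens.map i).obj V) ≤
      V ⊔ (⟨(Set.range i)ᶜ, hi.isClosed_range.isOpen_compl⟩ : Opens X) := by
  intro x hx
  by_cases hxr : x ∈ Set.range i
  · obtain ⟨z, rfl⟩ := hxr
    exact Or.inl ((mem_sObj i hi _ _).mp hx z rfl)
  · exact Or.inr hxr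

lemma sPullHom_bijective (F : CohTop.Ab X) (hF : Supp0 i F) (V : Opens X) :
    Function.Bijective ((sPullHom i hi F hF).hom.app (op V)) := by
  change Function.Bijective (F.obj.map (homOfLE (le_sObj_map i hi V)).op)
  let C : Opens X := ⟨(Set.range i)ᶜ, hi.isClosed_range.isOpen_compl⟩
  have hsub : ∀ A : Opens X, A ≤ C → Subsingleton (F.obj.obj (op A)) :=
    fun A hA => hF A (fun x hx => hA hx)
  have hC : C ≤ sObj i hi ((Opens.map i).obj V) := fun x hx => compl_range_le_sObj i hi _ x hx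
  constructor
  · intro a b hab
    apply TopCat.Sheaf.eq_of_locally_eq₂ F (homOfLE (le_sObj_map i hi V)) (homOfLE hC)
      (sObj_map_le i hi V) a b hab
    haveI := hsub C le_rfl
    exact Subsingleton.elim _ _
  · intro a
    haveI := hsub (V ⊓ C) inf_le_right
    obtain ⟨c, hc, -⟩ := LCZ.glue2 F a (0 : F.obj.obj (op C)) (Subsingleton.elim _ _)
    refine ⟨F.obj.map (homOfLE (sObj_map_le i hi V)).op c, ?_⟩
    rw [res_res' F.obj _ _ (homOfLE (le_sup_left : V ≤ V ⊔ C)).op]
    exact hc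

instance isIso_sPullHom (F : CohTop.Ab X) (hF : Supp0 i F) : IsIso (sPullHom i hi F hF) := by
  haveI : ∀ V, IsIso ((sPullHom i hi F hF).hom.app V) := fun V =>
    (ConcreteCategory.isIso_iff_bijective _).mpr (sPullHom_bijective i hi F hF V.unop)
  haveI : IsIso (sPullHom i hi F hF).hom := NatIso.isIso_of_isIso_app _
  haveI : IsIso ((sheafToPresheaf _ _).map (sPullHom i hi F hF)) := this
  exact isIso_of_reflects_iso _ (sheafToPresheaf _ _)

include hi in
theorem essImage_iff_supp0 (F : CohTop.Ab X) : (CohTop.push i).essImage F ↔ Supp0 i F := by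
  constructor
  · rintro ⟨G, ⟨e⟩⟩
    exact supp0_of_iso i e (supp0_push i G)
  · intro hF
    exact ⟨sPull i hi F hF, ⟨asIso (sPullHom i hi F hF)⟩⟩

include hi in
theorem essImage_iff_stalk (F : CohTop.Ab X) :
    (CohTop.push i).essImage F ↔ ∀ x : X, x ∉ Set.range i → IsZero (CohTop.stalk F x) :=
  (essImage_iff_supp0 i hi F).trans (supp0_iff_stalk i F hi.isClosed_range)

end Groth.Agent.LD.CE
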