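import Groth.Agent.Lib.Lead.CE.Main

/-! # Closed complement: `i_* ⊣ i⁻¹ Γ_Z`. -/

universe u
open CategoryTheory Limits Opposite TopologicalSpace Topology

namespace Groth.Agent.LD.CE

variable {X : TopCat.{u}} (U : Opens X)

lemma hiZ : IsClosedEmbedding (CohCx.inclCompl U) :=
  (U.isOpen.isClosed_compl).isClosedEmbedding_subtypeVal

lemma range_iZ : Set.range (CohCx.inclCompl U) = ((U : Set X)ᶜ : Set X) :=
  Subtype.range_coe

lemma le_of_forall_notMem_range {V : Opens X}
    (hV : ∀ x ∈ V, x ∉ Set.range (CohCx.inclCompl U)) : V ≤ U := by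
  intro x hx
  have h := hV x hx
  rw [range_iZ] at h
  by_contra hxU
  exact h hxU

lemma supp0_sectSupp (F : CohTop.Ab X) : Supp0 (CohCx.inclCompl U) (CohCx.sectSupp U F) := by
  intro V hV
  have hVU : V ≤ U := le_of_forall_notMem_range U hV
  have hz : ∀ t : (CohCx.sectSupp U F).obj.obj (op V), t = 0 := by
    intro t
    apply LCZ.ssι_app_injective U F V
    rw [map_zero]
    have h := LCZ.res_ssι_eq_zero U F V t
    have h2 := congrArg (F.obj.map (homOfLE (le_inf le_rfl hVU : V ≤ V ⊓ U)).op) h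
    rw [res_res' F.obj _ _ (𝟙 _), map_zero, F.obj.map_id] at h2
    exact h2
  exact ⟨fun a b => by rw [hz a, hz b]⟩

lemma comp_unit_eq_zero {G : CohTop.Ab (TopCat.of ((U : Set X)ᶜ : Set X))} {F : CohTop.Ab X}
    (φ : (CohTop.push (CohCx.inclCompl U)).obj G ⟶ F) :
    φ ≫ (LCZ.adjU U).unit.app F = 0 := by
  rw [LCZ.comp_unit_eq_zero_iff, LCZ.pull_map_eq_zero_iff]
  intro W hW
  haveI : Subsingleton (((CohTop.push (CohCx.inclCompl U)).obj G).obj.obj (op W)) := by
    apply supp0_push (CohCx.inclCompl U) G W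
    intro x hx
    rw [range_iZ]
    exact fun h => h (hW hx)
  apply AddCommGrpCat.hom_ext
  ext x
  rw [Subsingleton.elim x 0, map_zero]
  rfl

/-- the inclusion `Γ_Z F ⟶ F`, with `Γ_Z F` written via the functor `sectSuppF`. -/
noncomputable def ιΓ (F : CohTop.Ab X) : (LocCohZ.sectSuppF U).obj F ⟶ F := LCZ.ssι U F

instance (F : CohTop.Ab X) : Mono (ιΓ U F) :=
  inferInstanceAs (Mono (kernel.ι ((LCZ.adjU U).unit.app F)))

@[reassoc]
lemma map_ιΓ {F F' : CohTop.Ab X} (g : F ⟶ F') :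
    (LocCohZ.sectSuppF U).map g ≫ ιΓ U F' = ιΓ U F ≫ g := LCZ.sectSuppF_map_ssι U g

/-- the factorization of `φ : i_* G ⟶ F` through `Γ_Z F`. -/
noncomputable def liftΓ {G : CohTop.Ab (TopCat.of ((U : Set X)ᶜ : Set X))} {F : CohTop.Ab X}
    (φ : (CohTop.push (CohCx.inclCompl U)).obj G ⟶ F) :
    (CohTop.push (CohCx.inclCompl U)).obj G ⟶ (LocCohZ.sectSuppF U).obj F :=
  kernel.lift _ φ (comp_unit_eq_zero U φ)

@[reassoc (attr := simp)]
lemma liftΓ_ι {G : CohTop.Ab (TopCat.of ((U : Set X)ᶜ : Set X))} {F : CohTop.Ab X}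
    (φ : (CohTop.push (CohCx.inclCompl U)).obj G ⟶ F) : liftΓ U φ ≫ ιΓ U F = φ :=
  kernel.lift_ι _ _ _

lemma liftΓ_comp {G : CohTop.Ab (TopCat.of ((U : Set X)ᶜ : Set X))} {F F' : CohTop.Ab X}
    (φ : (CohTop.push (CohCx.inclCompl U)).obj G ⟶ F) (g : F ⟶ F') :
    liftΓ U (φ ≫ g) = liftΓ U φ ≫ (LocCohZ.sectSuppF U).map g := by
  rw [← cancel_mono (ιΓ U F'), liftΓ_ι, Category.assoc, map_ιΓ, liftΓ_ι_assoc]

lemma liftΓ_comp_ι {G : CohTop.Ab (TopCat.of ((U : Set X)ᶜ : Set X))} {F : CohTop.Ab X}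
    (ψ : (CohTop.push (CohCx.inclCompl U)).obj G ⟶ (LocCohZ.sectSuppF U).obj F) :
    liftΓ U (ψ ≫ ιΓ U F) = ψ := by
  rw [← cancel_mono (ιΓ U F), liftΓ_ι]

instance isIso_unit_sectSupp (F : CohTop.Ab X) :
    IsIso ((adjI (CohCx.inclCompl U)).unit.app ((LocCohZ.sectSuppF U).obj F)) := by
  haveI := push_full (CohCx.inclCompl U) (hiZ U)
  haveI := push_faithful (CohCx.inclCompl U) (hiZ U)
  exact (Adjunction.isIso_unit_app_iff_mem_essImage (adjI (CohCx.inclCompl U))).mpr
    ((essImage_iff_supp0 (CohCx.inclCompl U) (hiZ U) _).mpr (supp0_sectSupp U F))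

instance isIso_counit_app (G : CohTop.Ab (TopCat.of ((U : Set X)ᶜ : Set X))) :
    IsIso ((adjI (CohCx.inclCompl U)).counit.app G) := by
  haveI := isIso_counit (CohCx.inclCompl U) (hiZ U)
  infer_instance

section
variable {C D : Type*} [Category C] [Category D] {L : C ⥤ D} {R : D ⥤ C} (adj : L ⊣ R)

lemma R_map_inv_counit (Y : D) [IsIso (adj.counit.app Y)] :
    R.map (inv (adj.counit.app Y)) = adj.unit.app (R.obj Y) := by
  rw [← cancel_mono (R.map (adj.counit.app Y))]
  simp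

lemma L_map_inv_unit (A : C) [IsIso (adj.unit.app A)] :
    L.map (inv (adj.unit.app A)) = adj.counit.app (L.obj A) := by
  rw [← cancel_epi (L.map (adj.unit.app A))]
  simp

end

/-- the hom-set bijection `Hom(i_* G, F) ≃ Hom(G, i⁻¹ Γ_Z F)`. -/
noncomputable def closedHomEquiv (G : CohTop.Ab (TopCat.of ((U : Set X)ᶜ : Set X)))
    (F : CohTop.Ab X) :
    ((CohTop.push (CohCx.inclCompl U)).obj G ⟶ F) ≃
      (G ⟶ (CohTop.pull (CohCx.inclCompl U)).obj ((LocCohZ.sectSuppF U).obj F)) where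
  toFun φ := inv ((adjI (CohCx.inclCompl U)).counit.app G) ≫
    (CohTop.pull (CohCx.inclCompl U)).map (liftΓ U φ)
  invFun ψ := (CohTop.push (CohCx.inclCompl U)).map ψ ≫
    inv ((adjI (CohCx.inclCompl U)).unit.app ((LocCohZ.sectSuppF U).obj F)) ≫ ιΓ U F
  left_inv φ := by
    dsimp only
    rw [Functor.map_comp, R_map_inv_counit, Category.assoc]
    have hnat := (adjI (CohCx.inclCompl U)).unit.naturality (liftΓ U φ)
    dsimp only [Functor.id_obj, Functor.id_map, Functor.comp_obj, Functor.comp_map] at hnat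
    rw [← reassoc_of% hnat, IsIso.hom_inv_id_assoc, liftΓ_ι]
  right_inv ψ := by
    dsimp only
    rw [← Category.assoc ((CohTop.push (CohCx.inclCompl U)).map ψ), liftΓ_comp_ι,
      Functor.map_comp, L_map_inv_unit]
    have hnat := (adjI (CohCx.inclCompl U)).counit.naturality ψ
    dsimp only [Functor.id_obj, Functor.id_map, Functor.comp_obj, Functor.comp_map] at hnat
    rw [hnat, IsIso.inv_hom_id_assoc]

/-- **`i_* ⊣ i⁻¹ Γ_Z`** for the closed complement of an open. -/
noncomputable def closedAdj :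
    CohTop.push (CohCx.inclCompl U) ⊣ LocCohZ.sectSuppF U ⋙ CohTop.pull (CohCx.inclCompl U) :=
  Adjunction.mkOfHomEquiv
    { homEquiv := fun G F => closedHomEquiv U G F
      homEquiv_naturality_left_symm := by
        intro G' G F f g
        change (CohTop.push (CohCx.inclCompl U)).map (f ≫ g) ≫ _ =
          (CohTop.push (CohCx.inclCompl U)).map f ≫ (CohTop.push (CohCx.inclCompl U)).map g ≫ _
        rw [Functor.map_comp, Category.assoc]
      homEquiv_naturality_right := by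
        intro G F F' φ g
        change inv _ ≫ (CohTop.pull (CohCx.inclCompl U)).map (liftΓ U (φ ≫ g)) =
          (inv _ ≫ (CohTop.pull (CohCx.inclCompl U)).map (liftΓ U φ)) ≫
            (CohTop.pull (CohCx.inclCompl U)).map ((LocCohZ.sectSuppF U).map g)
        rw [liftΓ_comp, Functor.map_comp, Category.assoc] }

instance injective_HZ (I : CohTop.Ab X) [Injective I] : Injective (CohCx.HZ U I) := by
  haveI : (CohTop.push (CohCx.inclCompl U)).PreservesMonomorphisms :=
    Functor.preservesMonomorphisms_of_adjunction (adjI (CohCx.inclCompl U))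
  exact Injective.injective_of_adjoint (closedAdj U) I

end Groth.Agent.LD.CE
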