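import Groth.Agent.Lib.Lead.SC.ClosedEmb
import Groth.Agent.Lib.Lead.LCZ.Sect

/-! # Closed embeddings `i : Z ⟶ X`: `i_*` is fully faithful on abelian sheaves. -/

universe u
open CategoryTheory Limits Opposite TopologicalSpace Topology

namespace Groth.Agent.LD.CE

variable {Z X : TopCat.{u}} (i : Z ⟶ X) (hi : IsClosedEmbedding i)

/-- `s W = (i(Wᶜ))ᶜ`, the largest open of `X` with preimage `W`. -/
def sObj (W : Opens Z) : Opens X :=
  ⟨(i '' (W : Set Z)ᶜ)ᶜ, (hi.isClosedMap _ W.isOpen.isClosed_compl).isOpen_compl⟩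

lemma mem_sObj (W : Opens Z) (x : X) : x ∈ sObj i hi W ↔ ∀ z : Z, i z = x → z ∈ W := by
  change x ∉ i '' (W : Set Z)ᶜ ↔ _
  constructor
  · intro h z hz
    by_contra hzW
    exact h ⟨z, hzW, hz⟩
  · rintro h ⟨z, hzW, hz⟩
    exact hzW (h z hz)

lemma map_sObj (W : Opens Z) : (Opens.map i).obj (sObj i hi W) = W := by
  ext z
  change i z ∈ sObj i hi W ↔ z ∈ W
  rw [mem_sObj]
  constructor
  · intro h
    exact h z rfl
  · intro h z' hz'
    rw [hi.injective hz']
    exact h

lemma le_sObj_iff (V : Opens X) (W : Opens Z) : V ≤ sObj i hi W ↔ (Opens.map i).obj V ≤ W := by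
  constructor
  · intro h z hz
    exact (mem_sObj i hi W (i z)).mp (h hz) z rfl
  · intro h x hx
    rw [mem_sObj]
    rintro z rfl
    exact h hx

lemma sObj_mono {W W' : Opens Z} (h : W ≤ W') : sObj i hi W ≤ sObj i hi W' := by
  rw [le_sObj_iff, map_sObj]
  exact h

lemma le_sObj_map (V : Opens X) : V ≤ sObj i hi ((Opens.map i).obj V) := by
  rw [le_sObj_iff]

lemma compl_range_le_sObj (W : Opens Z) (x : X) (hx : x ∉ Set.range i) : x ∈ sObj i hi W := by
  rw [mem_sObj]
  intro z hz
  exact (hx ⟨z, hz⟩).elim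

lemma sObj_inf (W W' : Opens Z) : sObj i hi (W ⊓ W') = sObj i hi W ⊓ sObj i hi W' := by
  apply le_antisymm
  · exact le_inf (sObj_mono i hi inf_le_left) (sObj_mono i hi inf_le_right)
  · rw [le_sObj_iff]
    intro z hz
    have h1 : z ∈ (Opens.map i).obj (sObj i hi W) := hz.1
    have h2 : z ∈ (Opens.map i).obj (sObj i hi W') := hz.2
    rw [map_sObj] at h1 h2
    exact ⟨h1, h2⟩

/-- any two parallel restriction maps of a presheaf on a poset agree. -/
lemma map_eq_map {Y : TopCat.{u}} (P : (Opens Y)ᵒᵖ ⥤ AddCommGrpCat.{u}) {A B : (Opens Y)ᵒᵖ}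
    (f g : A ⟶ B) : P.map f = P.map g := by
  rw [Subsingleton.elim f g]

include hi in
lemma push_faithful : (CohTop.push i).Faithful := by
  refine ⟨fun {G G'} φ ψ h => ?_⟩
  apply Sheaf.hom_ext
  apply NatTrans.ext
  funext W
  obtain ⟨W⟩ := W
  have h1 : ((CohTop.push i).map φ).hom.app (op (sObj i hi W)) =
      ((CohTop.push i).map ψ).hom.app (op (sObj i hi W)) := by rw [h]
  change φ.hom.app (op ((Opens.map i).obj (sObj i hi W))) =
    ψ.hom.app (op ((Opens.map i).obj (sObj i hi W))) at h1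
  rw [map_sObj] at h1
  exact h1

/-- components of a morphism `i_* G ⟶ i_* G'` with explicit types. -/
def tc {G G' : CohTop.Ab Z} (θ : (CohTop.push i).obj G ⟶ (CohTop.push i).obj G') (V : Opens X) :
    G.obj.obj (op ((Opens.map i).obj V)) ⟶ G'.obj.obj (op ((Opens.map i).obj V)) :=
  θ.hom.app (op V)

lemma tc_nat {G G' : CohTop.Ab Z} (θ : (CohTop.push i).obj G ⟶ (CohTop.push i).obj G')
    {V V' : Opens X} (h : V' ≤ V) :
    G.obj.map ((Opens.map i).map (homOfLE h)).op ≫ tc i θ V' =
      tc i θ V ≫ G'.obj.map ((Opens.map i).map (homOfLE h)).op :=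
  θ.hom.naturality (homOfLE h).op

/-- the preimage of a morphism `i_* G ⟶ i_* G'`. -/
noncomputable def pushPreimage {G G' : CohTop.Ab Z}
    (θ : (CohTop.push i).obj G ⟶ (CohTop.push i).obj G') : G ⟶ G' where
  hom :=
    { app := fun W =>
        G.obj.map (eqToHom (map_sObj i hi W.unop)).op ≫ tc i θ (sObj i hi W.unop) ≫
          G'.obj.map (eqToHom (map_sObj i hi W.unop).symm).op
      naturality := by
        intro W W' f
        have hle : W'.unop ≤ W.unop := f.unop.le
        have hθ := tc_nat i θ (sObj_mono i hi hle)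
        have e1 : G.obj.map f ≫ G.obj.map (eqToHom (map_sObj i hi W'.unop)).op =
            G.obj.map (eqToHom (map_sObj i hi W.unop)).op ≫
              G.obj.map ((Opens.map i).map (homOfLE (sObj_mono i hi hle))).op := by
          rw [← G.obj.map_comp, ← G.obj.map_comp]
          exact map_eq_map G.obj _ _
        have e2 : G'.obj.map ((Opens.map i).map (homOfLE (sObj_mono i hi hle))).op ≫
            G'.obj.map (eqToHom (map_sObj i hi W'.unop).symm).op =
            G'.obj.map (eqToHom (map_sObj i hi W.unop).symm).op ≫ G'.obj.map f := by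
          rw [← G'.obj.map_comp, ← G'.obj.map_comp]
          exact map_eq_map G'.obj _ _
        rw [reassoc_of% e1, reassoc_of% hθ, e2]
        simp only [Category.assoc] }

lemma pushPreimage_app {G G' : CohTop.Ab Z}
    (θ : (CohTop.push i).obj G ⟶ (CohTop.push i).obj G') (W : Opens Z) :
    (pushPreimage i hi θ).hom.app (op W) =
      G.obj.map (eqToHom (map_sObj i hi W)).op ≫ tc i θ (sObj i hi W) ≫
          G'.obj.map (eqToHom (map_sObj i hi W).symm).op := rfl

lemma push_map_pushPreimage {G G' : CohTop.Ab Z}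
    (θ : (CohTop.push i).obj G ⟶ (CohTop.push i).obj G') :
    (CohTop.push i).map (pushPreimage i hi θ) = θ := by
  apply Sheaf.hom_ext
  apply NatTrans.ext
  funext V
  obtain ⟨V⟩ := V
  have hθ := tc_nat i θ (le_sObj_map i hi V)
  change (pushPreimage i hi θ).hom.app (op ((Opens.map i).obj V)) = tc i θ V
  rw [pushPreimage_app]
  have e2 : G'.obj.map (eqToHom (map_sObj i hi ((Opens.map i).obj V)).symm).op =
      G'.obj.map ((Opens.map i).map (homOfLE (le_sObj_map i hi V))).op := map_eq_map G'.obj _ _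
  rw [e2, ← hθ, ← Category.assoc, ← G.obj.map_comp]
  have e3 : (eqToHom (map_sObj i hi ((Opens.map i).obj V))).op ≫
      ((Opens.map i).map (homOfLE (le_sObj_map i hi V))).op = 𝟙 _ := Subsingleton.elim _ _
  rw [e3, G.obj.map_id, Category.id_comp]

include hi in
lemma push_full : (CohTop.push i).Full :=
  ⟨fun θ => ⟨pushPreimage i hi θ, push_map_pushPreimage i hi θ⟩⟩

end Groth.Agent.LD.CE
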