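import Groth.Agent.Lib.Lead.CE.EssImage

/-! # Closed embeddings: summary for `i_*`. -/

universe u
open CategoryTheory Limits Opposite TopologicalSpace Topology

namespace Groth.Agent.LD.CE

variable {Z X : TopCat.{u}} (i : Z ⟶ X) (hi : IsClosedEmbedding i)

include hi in
lemma push_preservesFiniteColimits : PreservesFiniteColimits (CohTop.push i) := by
  haveI : (CohTop.push i).PreservesEpimorphisms := SC.preservesEpi_push_of_isClosedEmbedding i hi
  haveI : (CohTop.push i).PreservesHomology :=
    Functor.preservesHomology_of_preservesEpis_and_kernels (CohTop.push i)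
  exact Functor.preservesFiniteColimits_of_preservesHomology (CohTop.push i)

/-- the adjunction `i⁻¹ ⊣ i_*`. -/
noncomputable abbrev adjI : CohTop.pull i ⊣ CohTop.push i :=
  TopCat.Sheaf.pullbackPushforwardAdjunction AddCommGrpCat.{u} i

include hi in
lemma isIso_counit : IsIso (adjI i).counit := by
  haveI := push_full i hi
  haveI := push_faithful i hi
  infer_instance

/-- `i⁻¹ i_* ≅ id`. -/
noncomputable def pushPullIso : CohTop.push i ⋙ CohTop.pull i ≅ 𝟭 (CohTop.Ab Z) :=
  haveI := isIso_counit i hi
  asIso (adjI i).counit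

include hi in
theorem main :
    PreservesFiniteColimits (CohTop.push i) ∧ (CohTop.push i).Full ∧ (CohTop.push i).Faithful ∧
      (∀ F : CohTop.Ab X, (CohTop.push i).essImage F ↔
        ∀ x : X, x ∉ Set.range i → IsZero (CohTop.stalk F x)) ∧
      Nonempty (CohTop.push i ⋙ CohTop.pull i ≅ 𝟭 (CohTop.Ab Z)) :=
  ⟨push_preservesFiniteColimits i hi, push_full i hi, push_faithful i hi,
    fun F => essImage_iff_stalk i hi F, ⟨pushPullIso i hi⟩⟩

end Groth.Agent.LD.CE
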